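import Mathlib
import Cfsg.Agent.Helper3.M22B.Chk
import Cfsg.Agent.Helper3.BlkBridge
import Cfsg.Agent.Helper9.Out.M22Out

set_option autoImplicit false

/-! The group of the tables on the 24 points and the 77 hexads is the Mathieu group of degree 22. -/

noncomputable section

namespace Cfsg.Agent.Helper3.M22B

open Cfsg Cfsg.Agent.Helper9.OutG Cfsg.Agent.Helper9.J3 Cfsg.Agent.Helper9.Golay
  Cfsg.Agent.Helper3.BlkBridge Cfsg.Agent.Helper9.OutM22

/-- the packed hexads. -/
def dHex : ℕ := 0x7048046a003064218061064060900a5980805400625222085015104c040c484302483840475000448a10428144420c8241201641092840e4204040d84012a43c120033010230a0503004a8296008288d002800c626084825802424441222c280223404211890205160202a2220031c1a444018212418081a160094152c0014c10812982011423011104c108606107082100bc00ea0020d01500c48a00b0a040a118809142208d01408826808269006072005028a0494c00462440430380419060384180320e002691002402e02125201c84201b30001458400a88c0081b2005e0800254a000c74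

/-- the incidence of a point and a hexad. -/
def incB (x j : ℕ) : Bool := Nat.testBit (lkF 24 16777215 dHex j) x

/-- the equality of truth values. -/
def eqB (a b : Bool) : Bool := Bool.rec (notB b) b a

theorem eqB_true {a b : Bool} (h : eqB a b = true) : a = b := by
  cases a <;> cases b <;> first | rfl | exact absurd h (by decide)

set_option maxRecDepth 1000000 in
set_option maxHeartbeats 0 in
theorem hex_letters : allB (fun l => andB (allB (fun x => ltB (T dD l x) 24) 24)
    (allB (fun j => andB (Nat.ble 24 (T dD l (Nat.add 24 j)))
      (allB (fun x => eqB (incB (T dD l x) (Nat.sub (T dD l (Nat.add 24 j)) 24)) (incB x j)) 24))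
      77)) dD.L = true := by decide +kernel

set_option maxRecDepth 1000000 in
set_option maxHeartbeats 0 in
theorem hex_inj : allB (fun j => allB (fun j' => orB (Nat.beq j j')
    (notB (allB (fun x => eqB (incB x j) (incB x j')) 24))) 77) 77 = true := by decide +kernel

theorem dn : dD.n = 101 := rfl

/-- the permutations that preserve the points, the hexads and the incidence. -/
def Good (g : Equiv.Perm (Fin dD.n)) : Prop :=
  (∀ x : Fin dD.n, x.val < 24 → (g x).val < 24) ∧ (∀ y : Fin dD.n, 24 ≤ y.val → 24 ≤ (g y).val) ∧
    ∀ x y : Fin dD.n, x.val < 24 → 24 ≤ y.val →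
      incB (g x).val ((g y).val - 24) = incB x.val (y.val - 24)

theorem good_mem : ∀ g ∈ GS core, Good g := by
  apply forall_mem_GS core Good
  · exact ⟨fun x hx => hx, fun y hy => hy, fun x y _ _ => rfl⟩
  · rintro a b ⟨a1, a2, a3⟩ ⟨b1, b2, b3⟩
    refine ⟨fun x hx => a1 _ (b1 x hx), fun y hy => a2 _ (b2 y hy), fun x y hx hy => ?_⟩
    rw [Equiv.Perm.mul_apply, Equiv.Perm.mul_apply, a3 _ _ (b1 x hx) (b2 y hy), b3 x y hx hy]
  · intro l hl
    obtain ⟨c1, c2⟩ := andB_true (allB_true hex_letters hl)
    refine ⟨fun x hx => ?_, fun y hy => ?_, fun x y hx hy => ?_⟩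
    · rw [El_apply]
      exact ltB_true (allB_true c1 hx)
    · rw [El_apply]
      have hj : y.val - 24 < 77 := by have := y.isLt; have := dn; omega
      have := (andB_true (allB_true c2 hj)).1
      have e : Nat.add 24 (y.val - 24) = y.val := by
        show 24 + (y.val - 24) = y.val
        omega
      rw [e] at this
      exact Nat.le_of_ble_eq_true this
    · rw [El_apply, El_apply]
      have hj : y.val - 24 < 77 := by have := y.isLt; have := dn; omega
      have := eqB_true (allB_true (andB_true (allB_true c2 hj)).2 hx)
      have e : Nat.add 24 (y.val - 24) = y.val := by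
        show 24 + (y.val - 24) = y.val
        omega
      rw [e] at this
      exact this

/-- the elements are determined by their action on the 24 points. -/
theorem faithful (g : ↥(GS core)) (hg : ∀ x : Fin dD.n, x.val < 24 → g.1 x = x) : g = 1 := by
  obtain ⟨g1, g2, g3⟩ := good_mem g.1 g.2
  apply Subtype.ext
  apply Equiv.ext
  intro y
  by_cases hy : y.val < 24
  · exact hg y hy
  · have hy' : 24 ≤ y.val := by omega
    have h1 := g2 y hy'
    have hj : y.val - 24 < 77 := by have := y.isLt; have := dn; omega
    have hj' : (g.1 y).val - 24 < 77 := by have := (g.1 y).isLt; have := dn; omega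
    have key : (g.1 y).val - 24 = y.val - 24 := by
      rcases orB_true (allB_true (allB_true hex_inj hj') hj) with h2 | h2
      · exact Nat.eq_of_beq_eq_true h2
      · exfalso
        have h3 := notB_true h2
        have h4 : allB (fun x => eqB (incB x ((g.1 y).val - 24)) (incB x (y.val - 24))) 24 = true := by
          apply allB_of_forall
          intro x hx
          have hxn : x < dD.n := by have := dn; omega
          have := g3 ⟨x, hxn⟩ y hx hy'
          rw [hg ⟨x, hxn⟩ hx] at this
          change incB x ((g.1 y).val - 24) = incB x (y.val - 24) at this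
          rw [this]
          cases incB x (y.val - 24) <;> rfl
        rw [h3] at h4
        exact Bool.false_ne_true h4
    show g.1 y = y
    apply Fin.ext
    omega

theorem hn24 : 24 ≤ dD.n := by decide

theorem hL24 : ∀ l, l < dD.L → ∀ x, x < 24 → T dD l x < 24 := by
  intro l hl x hx
  exact ltB_true (allB_true (andB_true (allB_true hex_letters hl)).1 hx)

set_option maxRecDepth 1000000 in
set_option maxHeartbeats 0 in
theorem tabA : ∀ x : Fin 24, T dD 0 x.val = o22AT.getD x.val 0 := by decide +kernel

set_option maxRecDepth 1000000 in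
set_option maxHeartbeats 0 in
theorem tabB : ∀ x : Fin 24, T dD 2 x.val = o22BT.getD x.val 0 := by decide +kernel

theorem iv0 : ivI dD 0 = 1 := by decide +kernel

theorem res0 : res core hn24 hL24 (gE core 0) = a22P :=
  res_gE core hn24 hL24 a22P_tbl 0 (fun x hx => tabA ⟨x, hx⟩)

theorem res2 : res core hn24 hL24 (gE core 2) = b22P :=
  res_gE core hn24 hL24 b22P_tbl 2 (fun x hx => tabB ⟨x, hx⟩)

theorem res1 : res core hn24 hL24 (gE core 1) = a22P⁻¹ := by
  have : gE core 1 = (gE core 0)⁻¹ := by rw [gE_inv, iv0]
  rw [this, map_inv, res0]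

theorem closure_res : Subgroup.closure (Set.range fun l : Fin dD.L =>
    res core hn24 hL24 (gE core l.val)) = Spor.M22 := by
  rw [← closure_ab22]
  apply le_antisymm
  · rw [Subgroup.closure_le]
    rintro σ ⟨l, rfl⟩
    have hl : l.val < 3 := l.isLt
    have h3 : l.val = 0 ∨ l.val = 1 ∨ l.val = 2 := by omega
    show res core hn24 hL24 (gE core l.val) ∈ _
    rcases h3 with e | e | e
    · rw [e, res0]
      exact Subgroup.subset_closure (by simp)
    · rw [e, res1]
      exact Subgroup.inv_mem _ (Subgroup.subset_closure (by simp))
    · rw [e, res2]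
      exact Subgroup.subset_closure (by simp)
  · rw [Subgroup.closure_le]
    intro σ hσ
    rcases hσ with rfl | rfl
    · rw [← res0]
      exact Subgroup.subset_closure ⟨⟨0, by decide⟩, rfl⟩
    · rw [← res2]
      exact Subgroup.subset_closure ⟨⟨2, by decide⟩, rfl⟩

/-- the group of the tables is the Mathieu group of degree 22. -/
def GSEquivM22 : ↥(GS core) ≃* ↥Spor.M22 :=
  equivOfFaithful core hn24 hL24 Spor.M22 closure_res faithful

theorem card_GS : Nat.card ↥(GS core) = 443520 := by
  rw [Nat.card_congr GSEquivM22.toEquiv, card_M22]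

end Cfsg.Agent.Helper3.M22B

end
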