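import Mathlib
import Cfsg.Agent.Helper3.M22B.Data
import Cfsg.Agent.Helper3.BlkRoots

set_option autoImplicit false

/-! Kernel checks of the certificates, the types of the representatives. -/

noncomputable section

namespace Cfsg.Agent.Helper3.M22B

open Cfsg.Agent.Helper9.OutG Cfsg.Agent.Helper9.J3 Cfsg.Agent.Helper3.BlkInv Cfsg.Agent.Helper3.BlkRoots

set_option maxRecDepth 1000000 in
set_option maxHeartbeats 0 in
theorem tyrep0 : Nat.beq (tyN dCodes dDs 9 (pcodeF (T dD 14) dD.n dDs)) 0 = true := by decide +kernel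

set_option maxRecDepth 1000000 in
set_option maxHeartbeats 0 in
theorem tyrep1 : Nat.beq (tyN dCodes dDs 9 (pcodeF (T dD dT1.ky) dD.n dDs)) 1 = true := by decide +kernel

set_option maxRecDepth 1000000 in
set_option maxHeartbeats 0 in
theorem tysq1 : Nat.beq (tyN dCodes dDs 9 (pcodeF (T dD (nthN dT1.ks 0)) dD.n dDs)) 0 = true := by decide +kernel

set_option maxRecDepth 1000000 in
set_option maxHeartbeats 0 in
theorem cj1 : allB (fun x => Nat.beq (T dD 14 (T dD dT1.ky x)) (T dD (nthN dT1.ks 1) (T dD 14 x))) dD.n = true := by decide +kernel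

set_option maxRecDepth 1000000 in
set_option maxHeartbeats 0 in
theorem tyz1 : Nat.beq (tyN dCodes dDs 9 (pcodeF (T dD 51) dD.n dDs)) 1 = true := by decide +kernel

set_option maxRecDepth 1000000 in
set_option maxHeartbeats 0 in
theorem tyrep2 : Nat.beq (tyN dCodes dDs 9 (pcodeF (T dD dT2.ky) dD.n dDs)) 2 = true := by decide +kernel

set_option maxRecDepth 1000000 in
set_option maxHeartbeats 0 in
theorem tysq2 : Nat.beq (tyN dCodes dDs 9 (pcodeF (T dD (nthN dT2.ks 2)) dD.n dDs)) 2 = true := by decide +kernel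

set_option maxRecDepth 1000000 in
set_option maxHeartbeats 0 in
theorem cj2 : allB (fun x => Nat.beq (T dD 14 (T dD dT2.ky x)) (T dD (nthN dT2.ks 1) (T dD 14 x))) dD.n = true := by decide +kernel

set_option maxRecDepth 1000000 in
set_option maxHeartbeats 0 in
theorem tyz2 : Nat.beq (tyN dCodes dDs 9 (pcodeF (T dD 14) dD.n dDs)) 0 = true := by decide +kernel

set_option maxRecDepth 1000000 in
set_option maxHeartbeats 0 in
theorem tyrep3 : Nat.beq (tyN dCodes dDs 9 (pcodeF (T dD dT3.ky) dD.n dDs)) 3 = true := by decide +kernel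

set_option maxRecDepth 1000000 in
set_option maxHeartbeats 0 in
theorem tysq3 : Nat.beq (tyN dCodes dDs 9 (pcodeF (T dD (nthN dT3.ks 2)) dD.n dDs)) 1 = true := by decide +kernel

set_option maxRecDepth 1000000 in
set_option maxHeartbeats 0 in
theorem cj3 : allB (fun x => Nat.beq (T dD 14 (T dD dT3.ky x)) (T dD (nthN dT3.ks 1) (T dD 14 x))) dD.n = true := by decide +kernel

set_option maxRecDepth 1000000 in
set_option maxHeartbeats 0 in
theorem tyz3 : Nat.beq (tyN dCodes dDs 9 (pcodeF (T dD 1250) dD.n dDs)) 3 = true := by decide +kernel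

set_option maxRecDepth 1000000 in
set_option maxHeartbeats 0 in
theorem tyrep4 : Nat.beq (tyN dCodes dDs 9 (pcodeF (T dD dT4.ky) dD.n dDs)) 4 = true := by decide +kernel

set_option maxRecDepth 1000000 in
set_option maxHeartbeats 0 in
theorem tysq4 : Nat.beq (tyN dCodes dDs 9 (pcodeF (T dD (nthN dT4.ks 2)) dD.n dDs)) 1 = true := by decide +kernel

set_option maxRecDepth 1000000 in
set_option maxHeartbeats 0 in
theorem cj4 : allB (fun x => Nat.beq (T dD 1254 (T dD dT4.ky x)) (T dD (nthN dT4.ks 1) (T dD 1254 x))) dD.n = true := by decide +kernel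

set_option maxRecDepth 1000000 in
set_option maxHeartbeats 0 in
theorem tyz4 : Nat.beq (tyN dCodes dDs 9 (pcodeF (T dD 1252) dD.n dDs)) 4 = true := by decide +kernel

set_option maxRecDepth 1000000 in
set_option maxHeartbeats 0 in
theorem tyrep5 : Nat.beq (tyN dCodes dDs 9 (pcodeF (T dD dT5.ky) dD.n dDs)) 5 = true := by decide +kernel

set_option maxRecDepth 1000000 in
set_option maxHeartbeats 0 in
theorem tysq5 : Nat.beq (tyN dCodes dDs 9 (pcodeF (T dD (nthN dT5.ks 2)) dD.n dDs)) 5 = true := by decide +kernel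

set_option maxRecDepth 1000000 in
set_option maxHeartbeats 0 in
theorem cj5 : allB (fun x => Nat.beq (T dD 1260 (T dD dT5.ky x)) (T dD (nthN dT5.ks 2) (T dD 1260 x))) dD.n = true := by decide +kernel

set_option maxRecDepth 1000000 in
set_option maxHeartbeats 0 in
theorem tyz5 : Nat.beq (tyN dCodes dDs 9 (pcodeF (T dD 14) dD.n dDs)) 0 = true := by decide +kernel

set_option maxRecDepth 1000000 in
set_option maxHeartbeats 0 in
theorem tyrep6 : Nat.beq (tyN dCodes dDs 9 (pcodeF (T dD dT6.ky) dD.n dDs)) 6 = true := by decide +kernel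

set_option maxRecDepth 1000000 in
set_option maxHeartbeats 0 in
theorem tysq6 : Nat.beq (tyN dCodes dDs 9 (pcodeF (T dD (nthN dT6.ks 2)) dD.n dDs)) 2 = true := by decide +kernel

set_option maxRecDepth 1000000 in
set_option maxHeartbeats 0 in
theorem cj6 : allB (fun x => Nat.beq (T dD 14 (T dD dT6.ky x)) (T dD (nthN dT6.ks 1) (T dD 14 x))) dD.n = true := by decide +kernel

set_option maxRecDepth 1000000 in
set_option maxHeartbeats 0 in
theorem tyz6 : Nat.beq (tyN dCodes dDs 9 (pcodeF (T dD 448) dD.n dDs)) 1 = true := by decide +kernel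

set_option maxRecDepth 1000000 in
set_option maxHeartbeats 0 in
theorem tyrep7 : Nat.beq (tyN dCodes dDs 9 (pcodeF (T dD dT7.ky) dD.n dDs)) 7 = true := by decide +kernel

set_option maxRecDepth 1000000 in
set_option maxHeartbeats 0 in
theorem tysq7 : Nat.beq (tyN dCodes dDs 9 (pcodeF (T dD (nthN dT7.ks 2)) dD.n dDs)) 7 = true := by decide +kernel

set_option maxRecDepth 1000000 in
set_option maxHeartbeats 0 in
theorem cj7 : allB (fun x => Nat.beq (T dD 1272 (T dD dT7.ky x)) (T dD (nthN dT7.ks 2) (T dD 1272 x))) dD.n = true := by decide +kernel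

set_option maxRecDepth 1000000 in
set_option maxHeartbeats 0 in
theorem tyz7 : Nat.beq (tyN dCodes dDs 9 (pcodeF (T dD 14) dD.n dDs)) 0 = true := by decide +kernel

set_option maxRecDepth 1000000 in
set_option maxHeartbeats 0 in
theorem tyrep8 : Nat.beq (tyN dCodes dDs 9 (pcodeF (T dD dT8.ky) dD.n dDs)) 8 = true := by decide +kernel

set_option maxRecDepth 1000000 in
set_option maxHeartbeats 0 in
theorem tysq8 : Nat.beq (tyN dCodes dDs 9 (pcodeF (T dD (nthN dT8.ks 2)) dD.n dDs)) 4 = true := by decide +kernel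

set_option maxRecDepth 1000000 in
set_option maxHeartbeats 0 in
theorem cj8 : allB (fun x => Nat.beq (T dD 549 (T dD dT8.ky x)) (T dD (nthN dT8.ks 3) (T dD 549 x))) dD.n = true := by decide +kernel

set_option maxRecDepth 1000000 in
set_option maxHeartbeats 0 in
theorem tyz8 : Nat.beq (tyN dCodes dDs 9 (pcodeF (T dD 1274) dD.n dDs)) 8 = true := by decide +kernel

set_option maxRecDepth 1000000 in
set_option maxHeartbeats 0 in
theorem tyrep9 : Nat.beq (tyN dCodes dDs 9 (pcodeF (T dD dT9.ky) dD.n dDs)) 9 = true := by decide +kernel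

set_option maxRecDepth 1000000 in
set_option maxHeartbeats 0 in
theorem tysq9 : Nat.beq (tyN dCodes dDs 9 (pcodeF (T dD (nthN dT9.ks 2)) dD.n dDs)) 9 = true := by decide +kernel

set_option maxRecDepth 1000000 in
set_option maxHeartbeats 0 in
theorem cj9 : allB (fun x => Nat.beq (T dD 1290 (T dD dT9.ky x)) (T dD (nthN dT9.ks 3) (T dD 1290 x))) dD.n = true := by decide +kernel

set_option maxRecDepth 1000000 in
set_option maxHeartbeats 0 in
theorem tyz9 : Nat.beq (tyN dCodes dDs 9 (pcodeF (T dD 14) dD.n dDs)) 0 = true := by decide +kernel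

end Cfsg.Agent.Helper3.M22B

end
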