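import Mathlib
import Cfsg.Agent.Helper3.M22B.Chk
import Cfsg.Agent.Helper3.M22B.ChkT1
import Cfsg.Agent.Helper3.M22B.ChkT2
import Cfsg.Agent.Helper3.M22B.ChkT3
import Cfsg.Agent.Helper3.M22B.ChkT4
import Cfsg.Agent.Helper3.M22B.ChkT5
import Cfsg.Agent.Helper3.M22B.ChkT6
import Cfsg.Agent.Helper3.M22B.ChkT7
import Cfsg.Agent.Helper3.M22B.ChkT8
import Cfsg.Agent.Helper3.M22B.ChkT9
import Cfsg.Agent.Helper3.M22B.ChkR
import Cfsg.Agent.Helper3.M22B.ChkC1
import Cfsg.Agent.Helper3.M22B.ChkC2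
import Cfsg.Agent.Helper3.M22B.ChkC3
import Cfsg.Agent.Helper3.M22B.ChkC4
import Cfsg.Agent.Helper3.M22B.ChkC5
import Cfsg.Agent.Helper3.M22B.ChkC6
import Cfsg.Agent.Helper3.M22B.ChkC7
import Cfsg.Agent.Helper3.M22B.ChkC8
import Cfsg.Agent.Helper3.M22B.ChkC9
import Cfsg.Agent.Helper3.M22B.Bridge
import Cfsg.Agent.Helper3.BlkAsm
import Cfsg.Agent.Helper6.PrincipalPairs
import Cfsg.Agent.Helper6.BrauerPerm2


set_option autoImplicit false

/-! All irreducible characters of the group of the tables lie in one 2-block. -/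

noncomputable section

namespace Cfsg.Agent.Helper3.M22B

open Cfsg Cfsg.Agent.Helper9.OutG Cfsg.Agent.Helper9.J3 Cfsg.Agent.Helper3.BlkInv
  Cfsg.Agent.Helper3.BlkCover Cfsg.Agent.Helper3.BlkRoots Cfsg.Agent.Helper3.BlkAsm
  Cfsg.Agent.Helper3.BlkParity

theorem hbs : ∀ b ∈ dC.bs, b < dD.n := by decide

/-- the type of an element. -/
def tyG : ↥(GS core) → Fin 10 := ty core dCodes dDs 9

/-- the tables of the representatives. -/
def kyL : List ℕ := [14, 51, 1248, 1250, 1252, 1256, 1262, 1266, 1274, 1280]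

/-- the representatives. -/
def tG (i : Fin 10) : ↥(GS core) := gE core (nthN kyL i.val)

/-- the bounds for the normalizing elements. -/
def nuF (i : Fin 10) : ℕ := nthN [443520, 384, 72, 32, 64, 20, 24, 21, 32, 55] i.val

/-- the sizes of the types. -/
def mF (i : Fin 10) : ℕ := nthN [1, 1155, 12320, 27720, 13860, 88704, 36960, 126720, 55440, 80640] i.val

/-- the types of the squares. -/
def sqF (i : Fin 10) : Fin 10 := ⟨Nat.min (nthN [0, 0, 2, 1, 1, 5, 2, 7, 4, 9] i.val) 9, Nat.lt_succ_of_le (Nat.min_le_right _ _)⟩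

/-- the ranks. -/
def rhoF (i : Fin 10) : ℕ := nthN [0, 1, 1, 0, 1, 0, 1, 0, 0, 0] i.val

/-- the exponents of 2 in the orders. -/
def aF (i : Fin 10) : ℕ := nthN [0, 1, 0, 2, 2, 0, 1, 0, 3, 0] i.val

/-- the halves of the odd parts of the orders. -/
def eF (i : Fin 10) : ℕ := nthN [0, 0, 1, 0, 0, 2, 1, 3, 0, 5] i.val

theorem tyG_conj (x g : ↥(GS core)) : tyG (x * g * x⁻¹) = tyG g := ty_conj core _ _ _ x g

theorem tyG_inv (g : ↥(GS core)) : tyG g⁻¹ = tyG g := ty_inv core _ _ _ g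

theorem tG0 : tG 0 = 1 := one_of_type core typeOK1

theorem rep0 : tyG (tG 0) = 0 := ty_of_chk core dCodes dDs 9 14 0 (by decide) tyrep0

theorem rep1 : tyG (tG ⟨1, by decide⟩) = ⟨1, by decide⟩ :=
  ty_of_chk core dCodes dDs 9 dT1.ky 1 (by decide) tyrep1

theorem rep2 : tyG (tG ⟨2, by decide⟩) = ⟨2, by decide⟩ :=
  ty_of_chk core dCodes dDs 9 dT2.ky 2 (by decide) tyrep2

theorem rep3 : tyG (tG ⟨3, by decide⟩) = ⟨3, by decide⟩ :=
  ty_of_chk core dCodes dDs 9 dT3.ky 3 (by decide) tyrep3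

theorem rep4 : tyG (tG ⟨4, by decide⟩) = ⟨4, by decide⟩ :=
  ty_of_chk core dCodes dDs 9 dT4.ky 4 (by decide) tyrep4

theorem rep5 : tyG (tG ⟨5, by decide⟩) = ⟨5, by decide⟩ :=
  ty_of_chk core dCodes dDs 9 dT5.ky 5 (by decide) tyrep5

theorem rep6 : tyG (tG ⟨6, by decide⟩) = ⟨6, by decide⟩ :=
  ty_of_chk core dCodes dDs 9 dT6.ky 6 (by decide) tyrep6

theorem rep7 : tyG (tG ⟨7, by decide⟩) = ⟨7, by decide⟩ :=
  ty_of_chk core dCodes dDs 9 dT7.ky 7 (by decide) tyrep7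

theorem rep8 : tyG (tG ⟨8, by decide⟩) = ⟨8, by decide⟩ :=
  ty_of_chk core dCodes dDs 9 dT8.ky 8 (by decide) tyrep8

theorem rep9 : tyG (tG ⟨9, by decide⟩) = ⟨9, by decide⟩ :=
  ty_of_chk core dCodes dDs 9 dT9.ky 9 (by decide) tyrep9

theorem rep : ∀ i : Fin 10, tyG (tG i) = i := by
  intro i
  fin_cases i
  · exact rep0
  · exact rep1
  · exact rep2
  · exact rep3
  · exact rep4
  · exact rep5
  · exact rep6
  · exact rep7
  · exact rep8
  · exact rep9


theorem hpow (i : Fin 10) (k : ℕ) (hk : Nat.Coprime k (orderOf (tG i))) : tyG (tG i ^ k) = i := by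
  unfold tyG
  rw [ty_pow_coprime core _ _ _ _ k hk]
  exact rep i

theorem nu1 : 1 < orderOf (gE core dT1.ky) ∧
    {g : ↥(GS core) | ∃ j : ℕ, j < orderOf (gE core dT1.ky) ∧ g * gE core dT1.ky = gE core dT1.ky ^ j * g}.ncard ≤ dT1.nu ∧
    dT1.nu * 1155 = Nat.card ↥(GS core) * Nat.totient (orderOf (gE core dT1.ky)) :=
  nu_of_type core card_GS hbs typeOK1 (by decide) 1155 (by decide)

theorem nu2 : 1 < orderOf (gE core dT2.ky) ∧
    {g : ↥(GS core) | ∃ j : ℕ, j < orderOf (gE core dT2.ky) ∧ g * gE core dT2.ky = gE core dT2.ky ^ j * g}.ncard ≤ dT2.nu ∧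
    dT2.nu * 12320 = Nat.card ↥(GS core) * Nat.totient (orderOf (gE core dT2.ky)) :=
  nu_of_type core card_GS hbs typeOK2 (by decide) 12320 (by decide)

theorem nu3 : 1 < orderOf (gE core dT3.ky) ∧
    {g : ↥(GS core) | ∃ j : ℕ, j < orderOf (gE core dT3.ky) ∧ g * gE core dT3.ky = gE core dT3.ky ^ j * g}.ncard ≤ dT3.nu ∧
    dT3.nu * 27720 = Nat.card ↥(GS core) * Nat.totient (orderOf (gE core dT3.ky)) :=
  nu_of_type core card_GS hbs typeOK3 (by decide) 27720 (by decide)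

theorem nu4 : 1 < orderOf (gE core dT4.ky) ∧
    {g : ↥(GS core) | ∃ j : ℕ, j < orderOf (gE core dT4.ky) ∧ g * gE core dT4.ky = gE core dT4.ky ^ j * g}.ncard ≤ dT4.nu ∧
    dT4.nu * 13860 = Nat.card ↥(GS core) * Nat.totient (orderOf (gE core dT4.ky)) :=
  nu_of_type core card_GS hbs typeOK4 (by decide) 13860 (by decide)

theorem nu5 : 1 < orderOf (gE core dT5.ky) ∧
    {g : ↥(GS core) | ∃ j : ℕ, j < orderOf (gE core dT5.ky) ∧ g * gE core dT5.ky = gE core dT5.ky ^ j * g}.ncard ≤ dT5.nu ∧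
    dT5.nu * 88704 = Nat.card ↥(GS core) * Nat.totient (orderOf (gE core dT5.ky)) :=
  nu_of_type core card_GS hbs typeOK5 (by decide) 88704 (by decide)

theorem nu6 : 1 < orderOf (gE core dT6.ky) ∧
    {g : ↥(GS core) | ∃ j : ℕ, j < orderOf (gE core dT6.ky) ∧ g * gE core dT6.ky = gE core dT6.ky ^ j * g}.ncard ≤ dT6.nu ∧
    dT6.nu * 36960 = Nat.card ↥(GS core) * Nat.totient (orderOf (gE core dT6.ky)) :=
  nu_of_type core card_GS hbs typeOK6 (by decide) 36960 (by decide)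

theorem nu7 : 1 < orderOf (gE core dT7.ky) ∧
    {g : ↥(GS core) | ∃ j : ℕ, j < orderOf (gE core dT7.ky) ∧ g * gE core dT7.ky = gE core dT7.ky ^ j * g}.ncard ≤ dT7.nu ∧
    dT7.nu * 126720 = Nat.card ↥(GS core) * Nat.totient (orderOf (gE core dT7.ky)) :=
  nu_of_type core card_GS hbs typeOK7 (by decide) 126720 (by decide)

theorem nu8 : 1 < orderOf (gE core dT8.ky) ∧
    {g : ↥(GS core) | ∃ j : ℕ, j < orderOf (gE core dT8.ky) ∧ g * gE core dT8.ky = gE core dT8.ky ^ j * g}.ncard ≤ dT8.nu ∧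
    dT8.nu * 55440 = Nat.card ↥(GS core) * Nat.totient (orderOf (gE core dT8.ky)) :=
  nu_of_type core card_GS hbs typeOK8 (by decide) 55440 (by decide)

theorem nu9 : 1 < orderOf (gE core dT9.ky) ∧
    {g : ↥(GS core) | ∃ j : ℕ, j < orderOf (gE core dT9.ky) ∧ g * gE core dT9.ky = gE core dT9.ky ^ j * g}.ncard ≤ dT9.nu ∧
    dT9.nu * 80640 = Nat.card ↥(GS core) * Nat.totient (orderOf (gE core dT9.ky)) :=
  nu_of_type core card_GS hbs typeOK9 (by decide) 80640 (by decide)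

theorem hnu : ∀ i : Fin 10, i ≠ 0 → 1 < orderOf (tG i) ∧
    {g : ↥(GS core) | ∃ j : ℕ, j < orderOf (tG i) ∧ g * tG i = tG i ^ j * g}.ncard ≤ nuF i ∧
    nuF i * mF i = Nat.card ↥(GS core) * Nat.totient (orderOf (tG i)) := by
  intro i hi
  fin_cases i
  · exact absurd rfl hi
  · exact nu1
  · exact nu2
  · exact nu3
  · exact nu4
  · exact nu5
  · exact nu6
  · exact nu7
  · exact nu8
  · exact nu9


theorem hsum : ∑ i : Fin 10, mF i = Nat.card ↥(GS core) := by
  rw [card_GS]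
  decide

theorem cov : (∀ i : Fin 10, (cl tyG i).card = mF i) ∧ ∀ g : ↥(GS core), g ∈ Cj (tG (tyG g)) :=
  cover tyG tG nuF mF 0 rfl tyG_conj hpow hnu hsum

theorem rat1 : ∀ k : ℕ, Nat.Coprime k (orderOf (gE core dT1.ky)) →
    IsConj (gE core dT1.ky) (gE core dT1.ky ^ k) ∨ IsConj (gE core dT1.ky)⁻¹ (gE core dT1.ky ^ k) :=
  rat_of_type core typeOK1 14 1 (by decide) cj1 (by decide +kernel)

theorem rat2 : ∀ k : ℕ, Nat.Coprime k (orderOf (gE core dT2.ky)) →
    IsConj (gE core dT2.ky) (gE core dT2.ky ^ k) ∨ IsConj (gE core dT2.ky)⁻¹ (gE core dT2.ky ^ k) :=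
  rat_of_type core typeOK2 14 1 (by decide) cj2 (by decide +kernel)

theorem rat3 : ∀ k : ℕ, Nat.Coprime k (orderOf (gE core dT3.ky)) →
    IsConj (gE core dT3.ky) (gE core dT3.ky ^ k) ∨ IsConj (gE core dT3.ky)⁻¹ (gE core dT3.ky ^ k) :=
  rat_of_type core typeOK3 14 1 (by decide) cj3 (by decide +kernel)

theorem rat4 : ∀ k : ℕ, Nat.Coprime k (orderOf (gE core dT4.ky)) →
    IsConj (gE core dT4.ky) (gE core dT4.ky ^ k) ∨ IsConj (gE core dT4.ky)⁻¹ (gE core dT4.ky ^ k) :=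
  rat_of_type core typeOK4 1254 1 (by decide) cj4 (by decide +kernel)

theorem rat5 : ∀ k : ℕ, Nat.Coprime k (orderOf (gE core dT5.ky)) →
    IsConj (gE core dT5.ky) (gE core dT5.ky ^ k) ∨ IsConj (gE core dT5.ky)⁻¹ (gE core dT5.ky ^ k) :=
  rat_of_type core typeOK5 1260 2 (by decide) cj5 (by decide +kernel)

theorem rat6 : ∀ k : ℕ, Nat.Coprime k (orderOf (gE core dT6.ky)) →
    IsConj (gE core dT6.ky) (gE core dT6.ky ^ k) ∨ IsConj (gE core dT6.ky)⁻¹ (gE core dT6.ky ^ k) :=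
  rat_of_type core typeOK6 14 1 (by decide) cj6 (by decide +kernel)

theorem rat7 : ∀ k : ℕ, Nat.Coprime k (orderOf (gE core dT7.ky)) →
    IsConj (gE core dT7.ky) (gE core dT7.ky ^ k) ∨ IsConj (gE core dT7.ky)⁻¹ (gE core dT7.ky ^ k) :=
  rat_of_type core typeOK7 1272 2 (by decide) cj7 (by decide +kernel)

theorem rat8 : ∀ k : ℕ, Nat.Coprime k (orderOf (gE core dT8.ky)) →
    IsConj (gE core dT8.ky) (gE core dT8.ky ^ k) ∨ IsConj (gE core dT8.ky)⁻¹ (gE core dT8.ky ^ k) :=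
  rat_of_type core typeOK8 549 3 (by decide) cj8 (by decide +kernel)

theorem rat9 : ∀ k : ℕ, Nat.Coprime k (orderOf (gE core dT9.ky)) →
    IsConj (gE core dT9.ky) (gE core dT9.ky ^ k) ∨ IsConj (gE core dT9.ky)⁻¹ (gE core dT9.ky ^ k) :=
  rat_of_type core typeOK9 1290 3 (by decide) cj9 (by decide +kernel)

theorem rat : ∀ (i : Fin 10) (k : ℕ), Nat.Coprime k (orderOf (tG i)) →
    IsConj (tG i) (tG i ^ k) ∨ IsConj (tG i)⁻¹ (tG i ^ k) := by
  intro i
  fin_cases i
  · intro k _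
    left
    show IsConj (tG 0) (tG 0 ^ k)
    rw [tG0, one_pow]
  · exact rat1
  · exact rat2
  · exact rat3
  · exact rat4
  · exact rat5
  · exact rat6
  · exact rat7
  · exact rat8
  · exact rat9


theorem hcover (g : ↥(GS core)) : IsConj (tG (tyG g)) g ∨ IsConj (tG (tyG g))⁻¹ g :=
  isConj_of_Cj (rat (tyG g)) (cov.2 g)

theorem h0 (x : ↥(GS core)) (hx : tyG x = 0) : x = 1 :=
  ty_eq_zero core (by decide) (by decide) (by decide) hx

theorem sq0 : tyG (tG 0 * tG 0) = sqF 0 := by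
  rw [tG0, mul_one, ← tG0]
  exact rep0

theorem sq1 : tyG (tG ⟨1, by decide⟩ * tG ⟨1, by decide⟩) = sqF ⟨1, by decide⟩ := by
  show tyG (gE core dT1.ky * gE core dT1.ky) = _
  rw [sq_of_type core typeOK1]
  exact ty_of_chk core dCodes dDs 9 _ 0 (by decide) tysq1

theorem sq2 : tyG (tG ⟨2, by decide⟩ * tG ⟨2, by decide⟩) = sqF ⟨2, by decide⟩ := by
  show tyG (gE core dT2.ky * gE core dT2.ky) = _
  rw [sq_of_type core typeOK2]
  exact ty_of_chk core dCodes dDs 9 _ 2 (by decide) tysq2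

theorem sq3 : tyG (tG ⟨3, by decide⟩ * tG ⟨3, by decide⟩) = sqF ⟨3, by decide⟩ := by
  show tyG (gE core dT3.ky * gE core dT3.ky) = _
  rw [sq_of_type core typeOK3]
  exact ty_of_chk core dCodes dDs 9 _ 1 (by decide) tysq3

theorem sq4 : tyG (tG ⟨4, by decide⟩ * tG ⟨4, by decide⟩) = sqF ⟨4, by decide⟩ := by
  show tyG (gE core dT4.ky * gE core dT4.ky) = _
  rw [sq_of_type core typeOK4]
  exact ty_of_chk core dCodes dDs 9 _ 1 (by decide) tysq4

theorem sq5 : tyG (tG ⟨5, by decide⟩ * tG ⟨5, by decide⟩) = sqF ⟨5, by decide⟩ := by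
  show tyG (gE core dT5.ky * gE core dT5.ky) = _
  rw [sq_of_type core typeOK5]
  exact ty_of_chk core dCodes dDs 9 _ 5 (by decide) tysq5

theorem sq6 : tyG (tG ⟨6, by decide⟩ * tG ⟨6, by decide⟩) = sqF ⟨6, by decide⟩ := by
  show tyG (gE core dT6.ky * gE core dT6.ky) = _
  rw [sq_of_type core typeOK6]
  exact ty_of_chk core dCodes dDs 9 _ 2 (by decide) tysq6

theorem sq7 : tyG (tG ⟨7, by decide⟩ * tG ⟨7, by decide⟩) = sqF ⟨7, by decide⟩ := by
  show tyG (gE core dT7.ky * gE core dT7.ky) = _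
  rw [sq_of_type core typeOK7]
  exact ty_of_chk core dCodes dDs 9 _ 7 (by decide) tysq7

theorem sq8 : tyG (tG ⟨8, by decide⟩ * tG ⟨8, by decide⟩) = sqF ⟨8, by decide⟩ := by
  show tyG (gE core dT8.ky * gE core dT8.ky) = _
  rw [sq_of_type core typeOK8]
  exact ty_of_chk core dCodes dDs 9 _ 4 (by decide) tysq8

theorem sq9 : tyG (tG ⟨9, by decide⟩ * tG ⟨9, by decide⟩) = sqF ⟨9, by decide⟩ := by
  show tyG (gE core dT9.ky * gE core dT9.ky) = _
  rw [sq_of_type core typeOK9]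
  exact ty_of_chk core dCodes dDs 9 _ 9 (by decide) tysq9

theorem sq : ∀ i : Fin 10, tyG (tG i * tG i) = sqF i := by
  intro i
  fin_cases i
  · exact sq0
  · exact sq1
  · exact sq2
  · exact sq3
  · exact sq4
  · exact sq5
  · exact sq6
  · exact sq7
  · exact sq8
  · exact sq9


theorem sqrts_mul (z : ↥(GS core)) : (sqrts z).card * mF (tyG z) =
    ∑ i : Fin 10, if sqF i = tyG z then mF i else 0 := by
  have h1 := card_sqrts_mul tyG tG tyG_conj tyG_inv hcover z
  rw [cov.1] at h1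
  rw [h1]
  apply Finset.sum_congr rfl
  intro i _
  rw [sq i, cov.1 i]

theorem z1 : tG ⟨1, by decide⟩ ^ (2 * 0 + 1) = gE core 51 := pow_of_type core typeOK1 _

theorem s1 : (tG ⟨1, by decide⟩ ^ 0)⁻¹ = gE core 14 := inv_pow_of_type core typeOK1 0 (by decide)

theorem tz1 : tyG (gE core 51) = ⟨1, by decide⟩ := ty_of_chk core dCodes dDs 9 51 1 (by decide) tyz1

theorem ln1 : (sqrts (gE core 51)).card = 36 := by
  have h1 := sqrts_mul (gE core 51)
  rw [tz1] at h1
  have h2 : (∑ i : Fin 10, if sqF i = (⟨1, by decide⟩ : Fin 10) then mF i else 0) =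
      36 * mF ⟨1, by decide⟩ := by decide
  rw [h2] at h1
  have hpos : 0 < mF ⟨1, by decide⟩ := by decide
  exact Nat.eq_of_mul_eq_mul_right hpos h1

theorem col1 (i : Fin 10) : rhoF ⟨1, by decide⟩ < rhoF i ∨ (⟨1, by decide⟩ : Fin 10) = 0 ∨
    Even (roots tyG i (tG ⟨1, by decide⟩) 0).card := by
  have hb : rhoF ⟨1, by decide⟩ < rhoF i ∨ Nat.testBit 0 i.val = false := by
    revert i
    decide
  rcases hb with hb | hb
  · exact Or.inl hb
  · right; right
    have h1 := even_roots core dC.bs hbs 51 (by decide) dCodes dDs 9 14 (by decide) dL1 0 1099511627776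
      root1 (by rw [len1, ln1]) i (by rw [Nat.eq_of_beq_eq_true par1]; exact hb)
    have e : roots tyG i (tG ⟨1, by decide⟩) 0 =
        (sqrts (gE core 51)).filter (fun u => ty core dCodes dDs 9 (u * gE core 14) = i) := by
      unfold roots sqrts
      rw [Finset.filter_filter, z1, s1]
      rfl
    rw [e]
    exact h1

theorem z2 : tG ⟨2, by decide⟩ ^ (2 * 1 + 1) = gE core 14 := pow_of_type core typeOK2 _

theorem s2 : (tG ⟨2, by decide⟩ ^ 1)⁻¹ = gE core 1249 := inv_pow_of_type core typeOK2 1 (by decide)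

theorem tz2 : tyG (gE core 14) = ⟨0, by decide⟩ := ty_of_chk core dCodes dDs 9 14 0 (by decide) tyz2

theorem ln2 : (sqrts (gE core 14)).card = 1156 := by
  have h1 := sqrts_mul (gE core 14)
  rw [tz2] at h1
  have h2 : (∑ i : Fin 10, if sqF i = (⟨0, by decide⟩ : Fin 10) then mF i else 0) =
      1156 * mF ⟨0, by decide⟩ := by decide
  rw [h2] at h1
  have hpos : 0 < mF ⟨0, by decide⟩ := by decide
  exact Nat.eq_of_mul_eq_mul_right hpos h1

theorem col2 (i : Fin 10) : rhoF ⟨2, by decide⟩ < rhoF i ∨ (⟨2, by decide⟩ : Fin 10) = 0 ∨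
    Even (roots tyG i (tG ⟨2, by decide⟩) 1).card := by
  have hb : rhoF ⟨2, by decide⟩ < rhoF i ∨ Nat.testBit 0 i.val = false := by
    revert i
    decide
  rcases hb with hb | hb
  · exact Or.inl hb
  · right; right
    have h1 := even_roots core dC.bs hbs 14 (by decide) dCodes dDs 9 1249 (by decide) dL2 0 1099511627776
      root2 (by rw [len2, ln2]) i (by rw [Nat.eq_of_beq_eq_true par2]; exact hb)
    have e : roots tyG i (tG ⟨2, by decide⟩) 1 =
        (sqrts (gE core 14)).filter (fun u => ty core dCodes dDs 9 (u * gE core 1249) = i) := by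
      unfold roots sqrts
      rw [Finset.filter_filter, z2, s2]
      rfl
    rw [e]
    exact h1

theorem z3 : tG ⟨3, by decide⟩ ^ (2 * 0 + 1) = gE core 1250 := pow_of_type core typeOK3 _

theorem s3 : (tG ⟨3, by decide⟩ ^ 0)⁻¹ = gE core 14 := inv_pow_of_type core typeOK3 0 (by decide)

theorem tz3 : tyG (gE core 1250) = ⟨3, by decide⟩ := ty_of_chk core dCodes dDs 9 1250 3 (by decide) tyz3

theorem ln3 : (sqrts (gE core 1250)).card = 0 := by
  have h1 := sqrts_mul (gE core 1250)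
  rw [tz3] at h1
  have h2 : (∑ i : Fin 10, if sqF i = (⟨3, by decide⟩ : Fin 10) then mF i else 0) =
      0 * mF ⟨3, by decide⟩ := by decide
  rw [h2] at h1
  have hpos : 0 < mF ⟨3, by decide⟩ := by decide
  exact Nat.eq_of_mul_eq_mul_right hpos h1

theorem col3 (i : Fin 10) : rhoF ⟨3, by decide⟩ < rhoF i ∨ (⟨3, by decide⟩ : Fin 10) = 0 ∨
    Even (roots tyG i (tG ⟨3, by decide⟩) 0).card := by
  have hb : rhoF ⟨3, by decide⟩ < rhoF i ∨ Nat.testBit 0 i.val = false := by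
    revert i
    decide
  rcases hb with hb | hb
  · exact Or.inl hb
  · right; right
    have h1 := even_roots core dC.bs hbs 1250 (by decide) dCodes dDs 9 14 (by decide) dL3 0 1099511627776
      root3 (by rw [len3, ln3]) i (by rw [Nat.eq_of_beq_eq_true par3]; exact hb)
    have e : roots tyG i (tG ⟨3, by decide⟩) 0 =
        (sqrts (gE core 1250)).filter (fun u => ty core dCodes dDs 9 (u * gE core 14) = i) := by
      unfold roots sqrts
      rw [Finset.filter_filter, z3, s3]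
      rfl
    rw [e]
    exact h1

theorem z4 : tG ⟨4, by decide⟩ ^ (2 * 0 + 1) = gE core 1252 := pow_of_type core typeOK4 _

theorem s4 : (tG ⟨4, by decide⟩ ^ 0)⁻¹ = gE core 14 := inv_pow_of_type core typeOK4 0 (by decide)

theorem tz4 : tyG (gE core 1252) = ⟨4, by decide⟩ := ty_of_chk core dCodes dDs 9 1252 4 (by decide) tyz4

theorem ln4 : (sqrts (gE core 1252)).card = 4 := by
  have h1 := sqrts_mul (gE core 1252)
  rw [tz4] at h1
  have h2 : (∑ i : Fin 10, if sqF i = (⟨4, by decide⟩ : Fin 10) then mF i else 0) =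
      4 * mF ⟨4, by decide⟩ := by decide
  rw [h2] at h1
  have hpos : 0 < mF ⟨4, by decide⟩ := by decide
  exact Nat.eq_of_mul_eq_mul_right hpos h1

theorem col4 (i : Fin 10) : rhoF ⟨4, by decide⟩ < rhoF i ∨ (⟨4, by decide⟩ : Fin 10) = 0 ∨
    Even (roots tyG i (tG ⟨4, by decide⟩) 0).card := by
  have hb : rhoF ⟨4, by decide⟩ < rhoF i ∨ Nat.testBit 0 i.val = false := by
    revert i
    decide
  rcases hb with hb | hb
  · exact Or.inl hb
  · right; right
    have h1 := even_roots core dC.bs hbs 1252 (by decide) dCodes dDs 9 14 (by decide) dL4 0 1099511627776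
      root4 (by rw [len4, ln4]) i (by rw [Nat.eq_of_beq_eq_true par4]; exact hb)
    have e : roots tyG i (tG ⟨4, by decide⟩) 0 =
        (sqrts (gE core 1252)).filter (fun u => ty core dCodes dDs 9 (u * gE core 14) = i) := by
      unfold roots sqrts
      rw [Finset.filter_filter, z4, s4]
      rfl
    rw [e]
    exact h1

theorem z5 : tG ⟨5, by decide⟩ ^ (2 * 2 + 1) = gE core 14 := pow_of_type core typeOK5 _

theorem s5 : (tG ⟨5, by decide⟩ ^ 2)⁻¹ = gE core 1259 := inv_pow_of_type core typeOK5 2 (by decide)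

theorem tz5 : tyG (gE core 14) = ⟨0, by decide⟩ := ty_of_chk core dCodes dDs 9 14 0 (by decide) tyz5

theorem ln5 : (sqrts (gE core 14)).card = 1156 := by
  have h1 := sqrts_mul (gE core 14)
  rw [tz5] at h1
  have h2 : (∑ i : Fin 10, if sqF i = (⟨0, by decide⟩ : Fin 10) then mF i else 0) =
      1156 * mF ⟨0, by decide⟩ := by decide
  rw [h2] at h1
  have hpos : 0 < mF ⟨0, by decide⟩ := by decide
  exact Nat.eq_of_mul_eq_mul_right hpos h1

theorem col5 (i : Fin 10) : rhoF ⟨5, by decide⟩ < rhoF i ∨ (⟨5, by decide⟩ : Fin 10) = 0 ∨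
    Even (roots tyG i (tG ⟨5, by decide⟩) 2).card := by
  have hb : rhoF ⟨5, by decide⟩ < rhoF i ∨ Nat.testBit 18 i.val = false := by
    revert i
    decide
  rcases hb with hb | hb
  · exact Or.inl hb
  · right; right
    have h1 := even_roots core dC.bs hbs 14 (by decide) dCodes dDs 9 1259 (by decide) dL5 0 1099511627776
      root5 (by rw [len5, ln5]) i (by rw [Nat.eq_of_beq_eq_true par5]; exact hb)
    have e : roots tyG i (tG ⟨5, by decide⟩) 2 =
        (sqrts (gE core 14)).filter (fun u => ty core dCodes dDs 9 (u * gE core 1259) = i) := by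
      unfold roots sqrts
      rw [Finset.filter_filter, z5, s5]
      rfl
    rw [e]
    exact h1

theorem z6 : tG ⟨6, by decide⟩ ^ (2 * 1 + 1) = gE core 448 := pow_of_type core typeOK6 _

theorem s6 : (tG ⟨6, by decide⟩ ^ 1)⁻¹ = gE core 1263 := inv_pow_of_type core typeOK6 1 (by decide)

theorem tz6 : tyG (gE core 448) = ⟨1, by decide⟩ := ty_of_chk core dCodes dDs 9 448 1 (by decide) tyz6

theorem ln6 : (sqrts (gE core 448)).card = 36 := by
  have h1 := sqrts_mul (gE core 448)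
  rw [tz6] at h1
  have h2 : (∑ i : Fin 10, if sqF i = (⟨1, by decide⟩ : Fin 10) then mF i else 0) =
      36 * mF ⟨1, by decide⟩ := by decide
  rw [h2] at h1
  have hpos : 0 < mF ⟨1, by decide⟩ := by decide
  exact Nat.eq_of_mul_eq_mul_right hpos h1

theorem col6 (i : Fin 10) : rhoF ⟨6, by decide⟩ < rhoF i ∨ (⟨6, by decide⟩ : Fin 10) = 0 ∨
    Even (roots tyG i (tG ⟨6, by decide⟩) 1).card := by
  have hb : rhoF ⟨6, by decide⟩ < rhoF i ∨ Nat.testBit 0 i.val = false := by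
    revert i
    decide
  rcases hb with hb | hb
  · exact Or.inl hb
  · right; right
    have h1 := even_roots core dC.bs hbs 448 (by decide) dCodes dDs 9 1263 (by decide) dL6 0 1099511627776
      root6 (by rw [len6, ln6]) i (by rw [Nat.eq_of_beq_eq_true par6]; exact hb)
    have e : roots tyG i (tG ⟨6, by decide⟩) 1 =
        (sqrts (gE core 448)).filter (fun u => ty core dCodes dDs 9 (u * gE core 1263) = i) := by
      unfold roots sqrts
      rw [Finset.filter_filter, z6, s6]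
      rfl
    rw [e]
    exact h1

theorem z7 : tG ⟨7, by decide⟩ ^ (2 * 3 + 1) = gE core 14 := pow_of_type core typeOK7 _

theorem s7 : (tG ⟨7, by decide⟩ ^ 3)⁻¹ = gE core 1271 := inv_pow_of_type core typeOK7 3 (by decide)

theorem tz7 : tyG (gE core 14) = ⟨0, by decide⟩ := ty_of_chk core dCodes dDs 9 14 0 (by decide) tyz7

theorem ln7 : (sqrts (gE core 14)).card = 1156 := by
  have h1 := sqrts_mul (gE core 14)
  rw [tz7] at h1
  have h2 : (∑ i : Fin 10, if sqF i = (⟨0, by decide⟩ : Fin 10) then mF i else 0) =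
      1156 * mF ⟨0, by decide⟩ := by decide
  rw [h2] at h1
  have hpos : 0 < mF ⟨0, by decide⟩ := by decide
  exact Nat.eq_of_mul_eq_mul_right hpos h1

theorem col7 (i : Fin 10) : rhoF ⟨7, by decide⟩ < rhoF i ∨ (⟨7, by decide⟩ : Fin 10) = 0 ∨
    Even (roots tyG i (tG ⟨7, by decide⟩) 3).card := by
  have hb : rhoF ⟨7, by decide⟩ < rhoF i ∨ Nat.testBit 0 i.val = false := by
    revert i
    decide
  rcases hb with hb | hb
  · exact Or.inl hb
  · right; right
    have h1 := even_roots core dC.bs hbs 14 (by decide) dCodes dDs 9 1271 (by decide) dL7 0 1099511627776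
      root7 (by rw [len7, ln7]) i (by rw [Nat.eq_of_beq_eq_true par7]; exact hb)
    have e : roots tyG i (tG ⟨7, by decide⟩) 3 =
        (sqrts (gE core 14)).filter (fun u => ty core dCodes dDs 9 (u * gE core 1271) = i) := by
      unfold roots sqrts
      rw [Finset.filter_filter, z7, s7]
      rfl
    rw [e]
    exact h1

theorem z8 : tG ⟨8, by decide⟩ ^ (2 * 0 + 1) = gE core 1274 := pow_of_type core typeOK8 _

theorem s8 : (tG ⟨8, by decide⟩ ^ 0)⁻¹ = gE core 14 := inv_pow_of_type core typeOK8 0 (by decide)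

theorem tz8 : tyG (gE core 1274) = ⟨8, by decide⟩ := ty_of_chk core dCodes dDs 9 1274 8 (by decide) tyz8

theorem ln8 : (sqrts (gE core 1274)).card = 0 := by
  have h1 := sqrts_mul (gE core 1274)
  rw [tz8] at h1
  have h2 : (∑ i : Fin 10, if sqF i = (⟨8, by decide⟩ : Fin 10) then mF i else 0) =
      0 * mF ⟨8, by decide⟩ := by decide
  rw [h2] at h1
  have hpos : 0 < mF ⟨8, by decide⟩ := by decide
  exact Nat.eq_of_mul_eq_mul_right hpos h1

theorem col8 (i : Fin 10) : rhoF ⟨8, by decide⟩ < rhoF i ∨ (⟨8, by decide⟩ : Fin 10) = 0 ∨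
    Even (roots tyG i (tG ⟨8, by decide⟩) 0).card := by
  have hb : rhoF ⟨8, by decide⟩ < rhoF i ∨ Nat.testBit 0 i.val = false := by
    revert i
    decide
  rcases hb with hb | hb
  · exact Or.inl hb
  · right; right
    have h1 := even_roots core dC.bs hbs 1274 (by decide) dCodes dDs 9 14 (by decide) dL8 0 1099511627776
      root8 (by rw [len8, ln8]) i (by rw [Nat.eq_of_beq_eq_true par8]; exact hb)
    have e : roots tyG i (tG ⟨8, by decide⟩) 0 =
        (sqrts (gE core 1274)).filter (fun u => ty core dCodes dDs 9 (u * gE core 14) = i) := by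
      unfold roots sqrts
      rw [Finset.filter_filter, z8, s8]
      rfl
    rw [e]
    exact h1

theorem z9 : tG ⟨9, by decide⟩ ^ (2 * 5 + 1) = gE core 14 := pow_of_type core typeOK9 _

theorem s9 : (tG ⟨9, by decide⟩ ^ 5)⁻¹ = gE core 1289 := inv_pow_of_type core typeOK9 5 (by decide)

theorem tz9 : tyG (gE core 14) = ⟨0, by decide⟩ := ty_of_chk core dCodes dDs 9 14 0 (by decide) tyz9

theorem ln9 : (sqrts (gE core 14)).card = 1156 := by
  have h1 := sqrts_mul (gE core 14)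
  rw [tz9] at h1
  have h2 : (∑ i : Fin 10, if sqF i = (⟨0, by decide⟩ : Fin 10) then mF i else 0) =
      1156 * mF ⟨0, by decide⟩ := by decide
  rw [h2] at h1
  have hpos : 0 < mF ⟨0, by decide⟩ := by decide
  exact Nat.eq_of_mul_eq_mul_right hpos h1

theorem col9 (i : Fin 10) : rhoF ⟨9, by decide⟩ < rhoF i ∨ (⟨9, by decide⟩ : Fin 10) = 0 ∨
    Even (roots tyG i (tG ⟨9, by decide⟩) 5).card := by
  have hb : rhoF ⟨9, by decide⟩ < rhoF i ∨ Nat.testBit 68 i.val = false := by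
    revert i
    decide
  rcases hb with hb | hb
  · exact Or.inl hb
  · right; right
    have h1 := even_roots core dC.bs hbs 14 (by decide) dCodes dDs 9 1289 (by decide) dL9 0 1099511627776
      root9 (by rw [len9, ln9]) i (by rw [Nat.eq_of_beq_eq_true par9]; exact hb)
    have e : roots tyG i (tG ⟨9, by decide⟩) 5 =
        (sqrts (gE core 14)).filter (fun u => ty core dCodes dDs 9 (u * gE core 1289) = i) := by
      unfold roots sqrts
      rw [Finset.filter_filter, z9, s9]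
      rfl
    rw [e]
    exact h1

theorem ord1 : tG ⟨1, by decide⟩ ^ (2 ^ 1 * (2 * 0 + 1)) = 1 := by
  have h1 : orderOf (tG ⟨1, by decide⟩) = 2 ^ 1 * (2 * 0 + 1) := type_order core typeOK1
  rw [← h1]
  exact pow_orderOf_eq_one _

theorem ord2 : tG ⟨2, by decide⟩ ^ (2 ^ 0 * (2 * 1 + 1)) = 1 := by
  have h1 : orderOf (tG ⟨2, by decide⟩) = 2 ^ 0 * (2 * 1 + 1) := type_order core typeOK2
  rw [← h1]
  exact pow_orderOf_eq_one _

theorem ord3 : tG ⟨3, by decide⟩ ^ (2 ^ 2 * (2 * 0 + 1)) = 1 := by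
  have h1 : orderOf (tG ⟨3, by decide⟩) = 2 ^ 2 * (2 * 0 + 1) := type_order core typeOK3
  rw [← h1]
  exact pow_orderOf_eq_one _

theorem ord4 : tG ⟨4, by decide⟩ ^ (2 ^ 2 * (2 * 0 + 1)) = 1 := by
  have h1 : orderOf (tG ⟨4, by decide⟩) = 2 ^ 2 * (2 * 0 + 1) := type_order core typeOK4
  rw [← h1]
  exact pow_orderOf_eq_one _

theorem ord5 : tG ⟨5, by decide⟩ ^ (2 ^ 0 * (2 * 2 + 1)) = 1 := by
  have h1 : orderOf (tG ⟨5, by decide⟩) = 2 ^ 0 * (2 * 2 + 1) := type_order core typeOK5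
  rw [← h1]
  exact pow_orderOf_eq_one _

theorem ord6 : tG ⟨6, by decide⟩ ^ (2 ^ 1 * (2 * 1 + 1)) = 1 := by
  have h1 : orderOf (tG ⟨6, by decide⟩) = 2 ^ 1 * (2 * 1 + 1) := type_order core typeOK6
  rw [← h1]
  exact pow_orderOf_eq_one _

theorem ord7 : tG ⟨7, by decide⟩ ^ (2 ^ 0 * (2 * 3 + 1)) = 1 := by
  have h1 : orderOf (tG ⟨7, by decide⟩) = 2 ^ 0 * (2 * 3 + 1) := type_order core typeOK7
  rw [← h1]
  exact pow_orderOf_eq_one _

theorem ord8 : tG ⟨8, by decide⟩ ^ (2 ^ 3 * (2 * 0 + 1)) = 1 := by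
  have h1 : orderOf (tG ⟨8, by decide⟩) = 2 ^ 3 * (2 * 0 + 1) := type_order core typeOK8
  rw [← h1]
  exact pow_orderOf_eq_one _

theorem ord9 : tG ⟨9, by decide⟩ ^ (2 ^ 0 * (2 * 5 + 1)) = 1 := by
  have h1 : orderOf (tG ⟨9, by decide⟩) = 2 ^ 0 * (2 * 5 + 1) := type_order core typeOK9
  rw [← h1]
  exact pow_orderOf_eq_one _

theorem hord : ∀ k : Fin 10, tG k ^ (2 ^ aF k * (2 * eF k + 1)) = 1 := by
  intro k
  fin_cases k
  · show tG 0 ^ _ = 1
    rw [tG0, one_pow]
  · exact ord1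
  · exact ord2
  · exact ord3
  · exact ord4
  · exact ord5
  · exact ord6
  · exact ord7
  · exact ord8
  · exact ord9

theorem hpar : ∀ i k : Fin 10, rhoF k < rhoF i ∨ k = 0 ∨ Even (roots tyG i (tG k) (eF k)).card := by
  intro i k
  fin_cases k
  · exact Or.inr (Or.inl rfl)
  · exact col1 i
  · exact col2 i
  · exact col3 i
  · exact col4 i
  · exact col5 i
  · exact col6 i
  · exact col7 i
  · exact col8 i
  · exact col9 i


/-- all irreducible characters of the group of the tables lie in one 2-block. -/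
theorem sameBlock_GS (M : Ideal Cfsg.AlgInt) (hM : Cfsg.IsPModular 2 M)
    (χ ψ : Cfsg.IrrCharacter ↥(GS core)) :
    Cfsg.SameBlock M (χ : ↥(GS core) → ℂ) (ψ : ↥(GS core) → ℂ) :=
  sameBlock_of_roots tyG tG tyG_conj tyG_inv hcover hM 0 h0 rhoF aF eF hord hpar χ ψ

/-- all irreducible characters of the sporadic group lie in one 2-block. -/
theorem sameBlock_spor (M : Ideal Cfsg.AlgInt) (hM : Cfsg.IsPModular 2 M)
    (χ ψ : Cfsg.IrrCharacter ↥Cfsg.Spor.M22) :
    Cfsg.SameBlock M (χ : ↥Cfsg.Spor.M22 → ℂ) (ψ : ↥Cfsg.Spor.M22 → ℂ) := by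
  have : Finite ↥Cfsg.Spor.M22 := Finite.of_equiv _ GSEquivM22.toEquiv
  have h1 := sameBlock_GS M hM
    ⟨fun x => (χ : ↥Cfsg.Spor.M22 → ℂ) (GSEquivM22 x), Cfsg.Agent.Helper6.IsIrrCharacter.comp_mulEquiv GSEquivM22 χ.2⟩
    ⟨fun x => (ψ : ↥Cfsg.Spor.M22 → ℂ) (GSEquivM22 x), Cfsg.Agent.Helper6.IsIrrCharacter.comp_mulEquiv GSEquivM22 ψ.2⟩
  have h2 := Cfsg.Agent.Helper6.sameBlock_comp_mulEquiv (M := M) GSEquivM22.symm _ _ h1
  have e : ∀ θ : ↥Cfsg.Spor.M22 → ℂ, (fun x => (fun y => θ (GSEquivM22 y)) (GSEquivM22.symm x)) = θ := by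
    intro θ
    funext x
    simp
  rw [e, e] at h2
  exact h2

end Cfsg.Agent.Helper3.M22B

end
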